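import Groth.Agent.Lib.CotT3.Regular
import Mathlib.Algebra.Homology.DerivedCategory.Ext.Linear
import Mathlib.Algebra.Homology.DerivedCategory.Ext.ExactSequences
import Mathlib.Algebra.Category.ModuleCat.Ext.HasExt
import Mathlib.Algebra.Category.ModuleCat.Projective

/-!
# `T²(B/k, B) ≅ Ext¹(I/I², B)` for reduced `B`
-/

set_option autoImplicit false
set_option backward.isDefEq.respectTransparency false
set_option linter.style.haveILetI false

universe u v w t

open TensorProduct CategoryTheory Abelian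

noncomputable section

namespace Groth.Agent.T2Ext3

open _root_.CotT CotT3

section Loc

variable {A : Type u} {B : Type v} {ι : Type w} {σ : Type t}
variable [CommRing A] [CommRing B] [Algebra A B]
variable (P : Algebra.Presentation A B ι σ)

/-- A relation with coefficients in `I` is locally trivial where `I` is generated by a regular sequence. -/
theorem exists_smul_mem_trivRel (p : Ideal P.toExtension.Ring) [p.IsPrime] {n : ℕ}
    (a : Fin n → P.toExtension.Ring) (ha : ∀ l, a l ∈ P.toExtension.ker)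
    (hI : P.toExtension.ker.map (algebraMap _ (Localization.AtPrime p)) =
          Ideal.span (Set.range fun l => algebraMap _ (Localization.AtPrime p) (a l)))
    (hreg : RegA (fun l => algebraMap P.toExtension.Ring (Localization.AtPrime p) (a l)))
    (q : relKer P) (hq0 : ∀ s, (q : relMod P) s ∈ P.toExtension.ker) :
    ∃ t, t ∉ p ∧ t • (q : relMod P) ∈ trivRel P := by
  classical
  have he : ∀ l, ∃ e : relMod P, jmap P e = a l := fun l => by
    have : a l ∈ LinearMap.range (jmap P) := by rw [range_jmap]; exact ha l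
    exact this
  choose e he using he
  let E : (Fin n → P.toExtension.Ring) →ₗ[P.toExtension.Ring] relMod P :=
    Fintype.linearCombination P.toExtension.Ring e
  have hE : ∀ b, jmap P (E b) = dotA a b := fun b => by
    simp [E, Fintype.linearCombination_apply, dotA_apply, map_sum, he]
  have hEt : (trivA a).map E ≤ trivRel P := by
    rw [trivA, Submodule.map_span, Submodule.span_le]
    rintro _ ⟨_, ⟨b, c, rfl⟩, rfl⟩
    exact Submodule.subset_span ⟨E b, E c, by rw [map_sub, map_smul, map_smul, hE, hE]⟩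
  -- write a multiple of q as a combination of the a l
  have hc : ∀ s, ∃ u : P.toExtension.Ring, u ∉ p ∧
      ∃ c : Fin n → P.toExtension.Ring, u * (q : relMod P) s = dotA a c := by
    intro s
    have h1 := Ideal.mem_map_of_mem (algebraMap _ (Localization.AtPrime p)) (hq0 s)
    rw [hI, Set.range_comp' , ← Ideal.map_span,
      IsLocalization.mem_map_algebraMap_iff p.primeCompl (Localization.AtPrime p)] at h1
    obtain ⟨⟨⟨x, hx⟩, ⟨v, hv⟩⟩, hxv⟩ := h1
    rw [← map_mul, IsLocalization.eq_iff_exists p.primeCompl] at hxv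
    obtain ⟨⟨w, hw⟩, hwx⟩ := hxv
    obtain ⟨c, rfl⟩ := exists_dotA a hx
    refine ⟨w * v, Ideal.IsPrime.mul_notMem ‹_› hw hv, w • c, ?_⟩
    rw [map_smul, smul_eq_mul]
    linear_combination hwx
  choose u hu c hc using hc
  let T := (q : relMod P).support
  let U := ∏ s ∈ T, u s
  have hU : U ∉ p := fun hm => by
    obtain ⟨s, _, hs⟩ := (Ideal.IsPrime.prod_mem_iff (hp := ‹_›)).1 hm
    exact hu s hs
  let g : Fin n → relMod P := fun l => ∑ s ∈ T, Finsupp.single s ((∏ t ∈ T.erase s, u t) * c s l)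
  have hg : U • (q : relMod P) = ∑ l, a l • g l := by
    conv_lhs => rw [← Finsupp.sum_single (q : relMod P)]
    simp only [Finsupp.sum, g, Finset.smul_sum]
    rw [Finset.sum_comm]
    refine Finset.sum_congr rfl fun s hs => ?_
    simp only [Finsupp.smul_single, smul_eq_mul]
    rw [← Finsupp.single_finsetSum]
    congr 1
    rw [show U = (∏ t ∈ T.erase s, u t) * u s from (Finset.prod_erase_mul _ _ hs).symm, mul_assoc, hc,
      dotA_apply, Finset.mul_sum]
    exact Finset.sum_congr rfl fun l _ => by ring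
  have hrel : dotA a (fun l => jmap P (g l)) = 0 := by
    have h1 := congrArg (jmap P) hg
    rw [map_smul, show jmap P (q : relMod P) = 0 from q.2, smul_zero, map_sum] at h1
    rw [dotA_apply, h1]
    exact Finset.sum_congr rfl fun l _ => by rw [map_smul, smul_eq_mul, mul_comm]
  obtain ⟨t, ht, htr⟩ := exists_smul_mem_trivA p a (fun l => jmap P (g l)) (mem_trivA_of_regA _ hreg _ (by
    have h1 := congrArg (algebraMap P.toExtension.Ring (Localization.AtPrime p)) hrel
    simpa [dotA_apply, map_sum] using h1))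
  refine ⟨t * U, Ideal.IsPrime.mul_notMem ‹_› ht hU, ?_⟩
  have key : ∀ b c : relMod P, jmap P b • c - jmap P c • b ∈ trivRel P := fun b c =>
    Submodule.subset_span ⟨b, c, rfl⟩
  have hsplit : (t * U) • (q : relMod P) =
      ∑ l, t • (jmap P (e l) • g l - jmap P (g l) • e l) + E (t • fun l => jmap P (g l)) := by
    rw [mul_smul, hg, Finset.smul_sum, map_smul]
    simp only [E, Fintype.linearCombination_apply, Finset.smul_sum, ← Finset.sum_add_distrib, he]
    refine Finset.sum_congr rfl fun l _ => ?_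
    rw [smul_sub]; abel
  rw [hsplit]
  exact Submodule.add_mem _ (Submodule.sum_mem _ fun l _ => Submodule.smul_mem _ _ (key _ _))
    (hEt ⟨_, htr, rfl⟩)

end Loc

section Coker

variable {B : Type u} [CommRing B] {M₂ M₁ C : Type u} [AddCommGroup M₂] [AddCommGroup M₁] [AddCommGroup C]
  [Module B M₂] [Module B M₁] [Module B C]

theorem nonempty_coker_equiv_ext [Module.Projective B M₁] (d : M₂ →ₗ[B] M₁) (π : M₁ →ₗ[B] C)
    (hex : Function.Exact d π) (hπ : Function.Surjective π) (N : Type u) [AddCommGroup N] [Module B N]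
    (hN : ∀ (φ : M₂ →ₗ[B] N) (z : M₂), d z = 0 → φ z = 0) :
    Nonempty (((M₂ →ₗ[B] N) ⧸ LinearMap.range (LinearMap.lcomp B N d)) ≃ₗ[B]
      Ext (ModuleCat.of B C) (ModuleCat.of B N) 1) := by
  let S : ShortComplex (ModuleCat.{u} B) :=
    ShortComplex.mk (ModuleCat.ofHom (LinearMap.ker π).subtype) (ModuleCat.ofHom π)
      (ModuleCat.hom_ext (LinearMap.ext fun x : LinearMap.ker π => x.2))
  have hS : S.ShortExact :=
    ModuleCat.shortComplex_shortExact S (LinearMap.exact_subtype_ker_map π) (LinearMap.ker π).injective_subtype hπ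
  let ψ : M₂ →ₗ[B] LinearMap.ker π := d.codRestrict _ fun z => hex.apply_apply_eq_zero z
  have hψ : Function.Surjective ψ := fun x => by
    obtain ⟨z, hz⟩ := (hex x.1).1 x.2
    exact ⟨z, Subtype.ext hz⟩
  have hker : ∀ φ : M₂ →ₗ[B] N, LinearMap.ker ψ ≤ LinearMap.ker φ := fun φ z hz =>
    hN φ z (congrArg Subtype.val (show ψ z = 0 from hz))
  let e : (LinearMap.ker π →ₗ[B] N) ≃ₗ[B] (M₂ →ₗ[B] N) := LinearEquiv.ofBijective (LinearMap.lcomp B N ψ)
    ⟨fun f g h => LinearMap.ext fun x => by
      obtain ⟨z, rfl⟩ := hψ x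
      exact LinearMap.congr_fun h z,
    fun φ => ⟨((LinearMap.ker ψ).liftQ φ (hker φ)) ∘ₗ (ψ.quotKerEquivOfSurjective hψ).symm.toLinearMap, by
      ext z
      show (LinearMap.ker ψ).liftQ φ (hker φ) ((ψ.quotKerEquivOfSurjective hψ).symm (ψ z)) = φ z
      rw [show (ψ.quotKerEquivOfSurjective hψ).symm (ψ z) = Submodule.Quotient.mk z from
        (LinearEquiv.symm_apply_eq _).2 rfl, Submodule.liftQ_apply]⟩⟩
  let δ : (M₂ →ₗ[B] N) →ₗ[B] Ext S.X₃ (ModuleCat.of B N) 1 :=
    (hS.extClass.precompOfLinear B (ModuleCat.of B N) (rfl : 1 + 0 = 1)) ∘ₗ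
      ((Ext.linearEquiv₀ (R := B)).symm.toLinearMap ∘ₗ
        ((ModuleCat.homLinearEquiv (S := B)).symm.toLinearMap ∘ₗ e.symm.toLinearMap))
  have hδ : ∀ f : LinearMap.ker π →ₗ[B] N,
      δ (e f) = hS.extClass.comp (Ext.mk₀ (ModuleCat.ofHom f : S.X₁ ⟶ _)) rfl := by
    intro f
    show hS.extClass.comp (Ext.mk₀ (ModuleCat.ofHom (e.symm (e f)) : S.X₁ ⟶ _)) rfl = _
    rw [e.symm_apply_apply]
  haveI : Projective S.X₂ := inferInstanceAs (Projective (ModuleCat.of B M₁))
  have hsur : Function.Surjective δ := fun x => by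
    obtain ⟨x₁, hx₁⟩ := Ext.contravariant_sequence_exact₃ hS _ x
      (Ext.eq_zero_of_projective _) (rfl : 1 + 0 = 1)
    obtain ⟨f, rfl⟩ := Ext.homEquiv₀.symm.surjective x₁
    exact ⟨e f.hom, (hδ f.hom).trans hx₁⟩
  have hk : LinearMap.range (LinearMap.lcomp B N d) = LinearMap.ker δ := by
    refine le_antisymm ?_ fun φ hφ => ?_
    · rintro _ ⟨g, rfl⟩
      rw [LinearMap.mem_ker, show LinearMap.lcomp B N d g = e (g ∘ₗ (LinearMap.ker π).subtype) from rfl, hδ,
        show (ModuleCat.ofHom (g ∘ₗ (LinearMap.ker π).subtype) : S.X₁ ⟶ _) = S.f ≫ ModuleCat.ofHom g from rfl,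
        ← Ext.mk₀_comp_mk₀, ← Ext.comp_assoc_of_second_deg_zero, hS.extClass_comp, Ext.zero_comp]
    · obtain ⟨f, rfl⟩ := e.surjective φ
      rw [LinearMap.mem_ker, hδ] at hφ
      obtain ⟨x₂, hx₂⟩ := Ext.contravariant_sequence_exact₁ hS _ _ rfl hφ
      obtain ⟨g, rfl⟩ := Ext.homEquiv₀.symm.surjective x₂
      rw [Ext.homEquiv₀_symm_apply, Ext.mk₀_comp_mk₀] at hx₂
      have hfg := Ext.homEquiv₀.symm.injective (a₁ := S.f ≫ g) (a₂ := ModuleCat.ofHom f) (by simpa using hx₂)
      refine ⟨g.hom, LinearMap.ext fun z => ?_⟩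
      exact congr($(hfg).hom (ψ z))
  exact ⟨(Submodule.quotEquivOfEq _ _ hk).trans (δ.quotKerEquivOfSurjective hsur)⟩

end Coker

section Minimal

variable {k : Type u} {B : Type u} {ι : Type u} {σ : Type u}
variable [Field k] [CommRing B] [Algebra k B] [Finite ι]
variable (P : Algebra.Presentation k B ι σ)

/-- At a minimal prime over the ideal of a reduced quotient, the ideal is generated by a regular sequence. -/
theorem exists_regular_generators [IsReduced B] (p : Ideal P.toExtension.Ring) [p.IsPrime]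
    (hp : p ∈ P.toExtension.ker.minimalPrimes) :
    ∃ (n : ℕ) (a : Fin n → P.toExtension.Ring), (∀ l, a l ∈ P.toExtension.ker) ∧
        P.toExtension.ker.map (algebraMap _ (Localization.AtPrime p)) =
          Ideal.span (Set.range fun l => algebraMap _ (Localization.AtPrime p) (a l)) ∧
        RegA (fun l => algebraMap P.toExtension.Ring (Localization.AtPrime p) (a l)) := by
  let L := Localization.AtPrime p
  haveI : IsRegularLocalRing L := by
    have : IsRegularRing P.toExtension.Ring := inferInstanceAs (IsRegularRing (MvPolynomial ι k))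
    exact IsRegularRing.isRegularLocalRing_localization p
  have hrad : P.toExtension.ker.radical = P.toExtension.ker := by
    refine le_antisymm (fun x hx => ?_) Ideal.le_radical
    obtain ⟨m, hm⟩ := hx
    have hm' : algebraMap P.toExtension.Ring B (x ^ m) = 0 := hm
    rw [map_pow] at hm'
    exact eq_zero_of_pow_eq_zero hm'
  have hmax : P.toExtension.ker.map (algebraMap _ L) = IsLocalRing.maximalIdeal L := by
    refine le_antisymm ?_ ?_
    · rw [← IsLocalization.AtPrime.map_eq_maximalIdeal p L]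
      exact Ideal.map_mono hp.1.2
    · conv_rhs => rw [← hrad, IsLocalization.map_radical p.primeCompl L, Ideal.radical_eq_sInf]
      refine le_sInf fun Q ⟨hQ, hQp⟩ => ?_
      haveI := hQp
      have h1 : Q.comap (algebraMap _ L) ≤ p :=
        (Ideal.comap_mono (IsLocalRing.le_maximalIdeal hQp.ne_top)).trans_eq
          (IsLocalization.AtPrime.comap_maximalIdeal L p)
      have h2 := hp.2 ⟨Ideal.comap_isPrime _ Q, Ideal.map_le_iff_le_comap.1 hQ⟩ h1
      rw [← IsLocalization.AtPrime.map_eq_maximalIdeal p L]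
      exact (Ideal.map_mono h2).trans Ideal.map_comap_le
  obtain ⟨x, hx⟩ := RegLoc.exists_fin_generators L
  have hxreg : RegA x := (regA_iff_isWeaklyRegular x).2
    (RegLoc.isRegular_of_span_range _ L x hx rfl).toIsWeaklyRegular
  have hlift : ∀ l, ∃ (a : P.toExtension.Ring) (v : Lˣ),
      a ∈ P.toExtension.ker ∧ algebraMap _ L a = (v : L) * x l := by
    intro l
    have h1 : x l ∈ P.toExtension.ker.map (algebraMap _ L) := hmax ▸ hx ▸ Ideal.subset_span ⟨l, rfl⟩
    obtain ⟨⟨⟨a, ha⟩, s⟩, h2⟩ := (IsLocalization.mem_map_algebraMap_iff p.primeCompl _).1 h1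
    exact ⟨a, (IsLocalization.map_units L s).unit, ha, by rw [IsUnit.unit_spec, mul_comm]; exact h2.symm⟩
  choose a v ha hav using hlift
  refine ⟨_, a, ha, ?_, (funext hav : (fun l => algebraMap _ L (a l)) = _) ▸ hxreg.units_mul v⟩
  refine hmax.trans (hx.symm.trans ?_)
  rw [show (fun l => algebraMap P.toExtension.Ring L (a l)) = fun l => (v l : L) * x l from funext hav]
  refine le_antisymm (Ideal.span_le.2 ?_) (Ideal.span_le.2 ?_)
  · rintro _ ⟨l, rfl⟩
    exact (Ideal.unit_mul_mem_iff_mem _ (v l).isUnit).1 (Ideal.subset_span ⟨l, rfl⟩)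
  · rintro _ ⟨l, rfl⟩
    exact Ideal.mul_mem_left _ _ (Ideal.subset_span ⟨l, rfl⟩)

/-- Maps to a reduced `B` kill the kernel of `d₂`. -/
theorem apply_eq_zero_of_d2_eq_zero [IsReduced B] (φ : L2 P →ₗ[B] B) {z : L2 P} (hz : d2 P z = 0) : φ z = 0 := by
  have hs : Function.Surjective (algebraMap P.toExtension.Ring B) := algebraMap_surjective P
  suffices h : ∀ q : Ideal B, q ∈ minimalPrimes B → φ z ∈ q by
    have : φ z ∈ sInf (⊥ : Ideal B).minimalPrimes := Ideal.mem_sInf.2 fun {q} hq => h q hq
    rw [Ideal.sInf_minimalPrimes, show (⊥ : Ideal B).radical = nilradical B from rfl, nilradical_eq_zero] at this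
    exact this
  intro q hq
  haveI : q.IsPrime := hq.1.1
  let p := q.comap (algebraMap P.toExtension.Ring B)
  have hp : p ∈ P.toExtension.ker.minimalPrimes := by
    refine ⟨⟨Ideal.comap_isPrime _ q, fun x hx => ?_⟩, fun Q ⟨hQ, hQk⟩ hle => ?_⟩
    · show algebraMap _ B x ∈ q
      rw [show algebraMap P.toExtension.Ring B x = 0 from hx]
      exact zero_mem _
    · haveI := hQ
      have hk : RingHom.ker (algebraMap P.toExtension.Ring B) ≤ Q := hQk
      have hQ' : (Q.map (algebraMap P.toExtension.Ring B)).IsPrime := Ideal.map_isPrime_of_surjective hs hk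
      have h1 : Q.map (algebraMap P.toExtension.Ring B) ≤ q := Ideal.map_le_iff_le_comap.2 hle
      have h2 := hq.2 ⟨hQ', bot_le⟩ h1
      calc p ≤ (Q.map (algebraMap P.toExtension.Ring B)).comap (algebraMap P.toExtension.Ring B) := Ideal.comap_mono h2
        _ = Q := by rw [Ideal.comap_map_of_surjective _ hs]; exact sup_eq_left.2 hk
  obtain ⟨n, a, ha, hI, hreg⟩ := exists_regular_generators P p hp
  obtain ⟨q', rfl⟩ := L2mk_surjective P z
  rw [d2_L2mk] at hz
  have hq0 : ∀ s, (q' : relMod P) s ∈ P.toExtension.ker := fun s => by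
    have h1 := congrArg (fun x => (L1basis P).repr x s) hz
    simpa [L1basis, Algebra.TensorProduct.basis_repr_tmul] using h1
  obtain ⟨c, hc, htr⟩ := exists_smul_mem_trivRel P p a ha hI hreg q' hq0
  have h0 : algebraMap P.toExtension.Ring B c • L2mk P q' = 0 := by
    rw [algebraMap_smul, ← map_smul, L2mk_eq_zero_iff]
    exact htr
  have h1 := congrArg φ h0
  rw [map_smul, map_zero, smul_eq_mul] at h1
  exact ((Ideal.IsPrime.mem_or_mem ‹_› (h1 ▸ zero_mem q)).resolve_left hc)

/-- `T²(B/k, B) ≅ Ext¹_B(I/I², B)` for reduced `B`. -/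
theorem nonempty_T2_equiv_ext [IsReduced B] :
    Nonempty (T2 P B ≃ₗ[B] Ext (ModuleCat.of B P.toExtension.Cotangent) (ModuleCat.of B B) 1) :=
  haveI : Module.Free B (L1 P) := Module.Free.of_basis (L1basis P)
  nonempty_coker_equiv_ext (d2 P) (toCot P) (exact_d2_toCot P) (toCot_surjective P) B
    fun φ _ hz => apply_eq_zero_of_d2_eq_zero P φ hz

end Minimal

end Groth.Agent.T2Ext3
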